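import Groth.Agent.Lib.Helper2.ExtDepth.Global
import Groth.Agent.Lib.Helper7.AusBuch
import Groth.Agent.Lib.Helper4.RegCM
import Groth.Agent.Lib.Helper25.SplitFibre
import Groth.Agent.Lib.Helper13.StalkPd
import Groth.Agent.Lib.Helper12.Equidim
import Groth.Agent.Lib.Helper9.TopDim
import Groth.Agent.S0019
import Groth.Agent.Lib.Helper17.DevTF
import Groth.Agent.Lib.Helper13.ClImmPush

/-!
# Vanishing of `ℰxt^q(i_* O_X, E)` below the codimension, on a regular scheme (helper2)
-/

set_option autoImplicit false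
set_option linter.style.haveILetI false
universe u
open CategoryTheory CategoryTheory.Limits AlgebraicGeometry TopologicalSpace Opposite
open Scheme.Modules

noncomputable section

namespace Groth.Agent.Lib.Helper2.ExtDepth

section LocFreeDepth

variable {P : Scheme.{u}}

/-- the stalk of a finite locally free module at a regular point has depth at least the dimension
of the local ring. -/
theorem le_depth_stalk_of_isFinLocFree (E : P.Modules) (hE : FlatMod.IsFinLocFree E) (x : P)
    [IsRegularLocalRing (P.presheaf.stalk x)] (m : ℕ)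
    (hm : (m : WithBot ℕ∞) ≤ ringKrullDim (P.presheaf.stalk x)) :
    (m : ℕ∞) ≤ LocCoh.depth (P.presheaf.stalk x) (E.presheaf.stalk x) := by
  obtain ⟨hfree, hfin⟩ := Groth.Agent.Lib.Helper25.SplitFibre.free_finite_stalk_of_isFinLocFree hE x
  by_cases hnt : Nontrivial (E.presheaf.stalk x)
  · rw [Groth.Agent.Lib.Helper7.AusBuch.depth_free (P.presheaf.stalk x) (E.presheaf.stalk x)]
    have h1 := Groth.Agent.Lib.Helper4.RegCM.depth_eq_ringKrullDim (P.presheaf.stalk x)
    rw [← h1] at hm
    exact_mod_cast hm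
  · rw [not_nontrivial_iff_subsingleton] at hnt
    unfold LocCoh.depth
    rw [Groth.Agent.Lib.Helper4.idealDepth_of_smul_top_eq _ (Subsingleton.elim _ _)]
    exact le_top

end LocFreeDepth

section Dim

open Groth.Agent.Lib.Helper12 Groth.Agent.Lib.Helper12.SchemeDimFT
  Groth.Agent.Lib.Helper12.SchemeDimIneq Groth.Agent.Lib.Helper12.Equidim

variable (k : Type u) [Field k] (P : Scheme.{u}) [P.Over (Spec (CommRingCat.of k))]
  [LocallyOfFiniteType (P ↘ Spec (CommRingCat.of k))]

include k in
/-- on an equidimensional scheme of dimension `n`, locally of finite type over a field,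
`trdeg κ(x) + dim O_x = n`. -/
theorem tr_add_ringKrullDim_stalk_of_equidim (n : ℕ)
    (hP : ∀ Z : Set ↥P, Z ∈ irreducibleComponents ↥P → topologicalKrullDim ↥Z = (n : WithBot ℕ∞))
    (x : P) : ∃ b : ℕ, ringKrullDim (P.presheaf.stalk x) = b ∧ tr k P x + b = n := by
  obtain ⟨b, hb⟩ := exists_ringKrullDim_stalk_eq k P x
  refine ⟨b, hb, ?_⟩
  have h1 := localDim_eq_of_equidim k P n hP x
  rw [localDim_eq k P x _ b (tr_spec k P x) hb] at h1
  exact_mod_cast h1

include k in
/-- the codimension bound for the points of a closed subscheme of dimension `≤ r`. -/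
theorem natCast_sub_le_ringKrullDim_stalk (n r : ℕ)
    (hP : ∀ Z : Set ↥P, Z ∈ irreducibleComponents ↥P → topologicalKrullDim ↥Z = (n : WithBot ℕ∞))
    {X : Scheme.{u}} (ι : X ⟶ P) [IsClosedImmersion ι]
    (hX : topologicalKrullDim ↥X ≤ (r : WithBot ℕ∞)) (z : X) :
    ((n - r : ℕ) : WithBot ℕ∞) ≤ ringKrullDim (P.presheaf.stalk (ι z)) := by
  obtain ⟨b, hb, hsum⟩ := tr_add_ringKrullDim_stalk_of_equidim k P n hP (ι z)
  have hemb : Topology.IsClosedEmbedding ι := ι.isClosedEmbedding
  let e : ↥X ≃ₜ Set.range ι := hemb.isEmbedding.toHomeomorph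
  have hsub : closure ({ι z} : Set ↥P) ⊆ Set.range ι :=
    closure_minimal (Set.singleton_subset_iff.mpr ⟨z, rfl⟩) hemb.isClosed_range
  have hind : Topology.IsInducing (e.symm ∘ Set.inclusion hsub) :=
    e.symm.isInducing.comp (Topology.IsEmbedding.inclusion hsub).isInducing
  have h1 := hind.topologicalKrullDim_le
  rw [topologicalKrullDim_closure_singleton k P (ι z)] at h1
  have h2 : ((tr k P (ι z) : ℕ) : WithBot ℕ∞) ≤ (r : WithBot ℕ∞) := h1.trans hX
  have h3 : tr k P (ι z) ≤ r := by exact_mod_cast h2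
  rw [hb]
  have h4 : n - r ≤ b := by omega
  exact_mod_cast h4

end Dim

section Main

/-- the direct image along a closed immersion is supported on the image. -/
theorem support_pushforward_subset_range {X P : Scheme.{u}} (ι : X ⟶ P) [IsClosedImmersion ι]
    (M : X.Modules) : CohB1.support ((Scheme.Modules.pushforward ι).obj M) ⊆ Set.range ι := by
  intro x hx
  by_contra hxr
  let W : P.Opens := ⟨(Set.range ι)ᶜ, ι.isClosedEmbedding.isClosed_range.isOpen_compl⟩
  refine Groth.Agent.Lib.Helper17.DevTF.notMem_support_of_sections _ W (fun U hU s => ?_) x hxr hx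
  haveI : Subsingleton Γ(M, ι ⁻¹ᵁ U) :=
    Groth.Agent.Lib.Helper13.ClImmPush.subsingleton_sections_of_eq_bot M _ (by
      ext y
      simp only [Opens.coe_bot, Set.mem_empty_iff_false, iff_false]
      intro hy
      exact hU hy ⟨y, rfl⟩)
  exact Subsingleton.elim (α := Γ(M, ι ⁻¹ᵁ U)) s 0

/-- **`ℰxt^q(ι_* O_X, E) = 0` for `q < n - r`**: `P` regular, equidimensional of dimension `n` and
locally of finite type over a field, `X ⊆ P` closed of dimension `≤ r`, `E` finite locally free. -/
theorem isZero_extSh_pushforward_of_lt_codim (k : Type u) [Field k] (P X : Scheme.{u})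
    [P.Over (Spec (CommRingCat.of k))] [LocallyOfFiniteType (P ↘ Spec (CommRingCat.of k))]
    (hreg : ∀ p : P, IsRegularLocalRing (P.presheaf.stalk p)) (n r : ℕ)
    (hP : ∀ Z : Set ↥P, Z ∈ irreducibleComponents ↥P → topologicalKrullDim ↥Z = (n : WithBot ℕ∞))
    (ι : X ⟶ P) [IsClosedImmersion ι] (hX : topologicalKrullDim ↥X ≤ (r : WithBot ℕ∞))
    (E : P.Modules) (hE : FlatMod.IsFinLocFree E)
    [ModSite.HasSheafHom (O := P.sheaf)
      ((Scheme.Modules.pushforward ι).obj (Coh.structureModule X))]
    [HasInjectiveResolutions (ModSite.Mod P.sheaf)] (q : ℕ) (hq : q < n - r) :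
    IsZero ((ModSite.extSh (O := P.sheaf)
      ((Scheme.Modules.pushforward ι).obj (Coh.structureModule X)) q).obj E) := by
  haveI : IsLocallyNoetherian P :=
    LocallyOfFiniteType.isLocallyNoetherian (P ↘ Spec (CommRingCat.of k))
  have hG : Coh.IsCoh ((Scheme.Modules.pushforward ι).obj (Coh.structureModule X)) :=
    Groth.Agent.S0019.result ι _ (Groth.Agent.Lib.Helper2.ExtShCoh.isCoh_unit X)
  have hEc : Coh.IsCoh E := Groth.Agent.Lib.Helper13.StalkPd.coh_of_lf hE
  refine isZero_extSh_of_le_depth_stalk _ E hG hEc (n - r) (fun x hx => ?_) q hq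
  obtain ⟨z, rfl⟩ := support_pushforward_subset_range ι _ hx
  haveI := hreg (ι z)
  exact le_depth_stalk_of_isFinLocFree E hE (ι z) (n - r)
    (natCast_sub_le_ringKrullDim_stalk k P n r hP ι hX z)

end Main

end Groth.Agent.Lib.Helper2.ExtDepth
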