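import Groth.Agent.Lib.Helper2.ExtDepth.CMDepth
import Groth.Agent.Lib.Helper2.HomogG.PnCM
import Groth.Agent.Lib.Helper1.ProjSpaceFT
import Groth.Agent.Lib.Helper7.LocFreePn
import Groth.Agent.S10829

/-!
# Vanishing of `ℰxt^i(ι_* O_X, E)` below the codimension on projective space over a field (helper2)
-/

set_option autoImplicit false
set_option linter.style.haveILetI false
universe u
open CategoryTheory CategoryTheory.Limits AlgebraicGeometry TopologicalSpace Opposite
open Scheme.Modules

noncomputable section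

namespace Groth.Agent.Lib.Helper2.ExtDepth

variable (k : Type u) [Field k] (N : ℕ)

instance locallyOfFiniteType_projSpace_over :
    LocallyOfFiniteType (CohB1.ProjSpace N k ↘ Spec (CommRingCat.of k)) :=
  Groth.Agent.Lib.Helper1.ProjSpaceFT.locallyOfFiniteType_toSpec N k

theorem equidim_projSpace (Z : Set ↥(CohB1.ProjSpace N k))
    (hZ : Z ∈ irreducibleComponents ↥(CohB1.ProjSpace N k)) :
    topologicalKrullDim ↥Z = (N : WithBot ℕ∞) := by
  haveI : IsIntegral (CohB1.ProjSpace N k) :=
    Groth.Agent.Lib.Helper7.LocFreePn.isIntegral_projSpace N k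
  haveI : IrreducibleSpace ↥(CohB1.ProjSpace N k) := inferInstance
  rw [irreducibleComponents_eq_singleton, Set.mem_singleton_iff] at hZ
  subst hZ
  rw [← Groth.Agent.S10829.result k N]
  exact IsHomeomorph.topologicalKrullDim_eq _
    (Homeomorph.Set.univ ↥(CohB1.ProjSpace N k)).isHomeomorph

/-- **`ℰxt^i(ι_* O_X, E) = 0` for `i < r`** when `dim X + r ≤ N`, on `P^N_k`. -/
theorem isZero_extSh_projSpace_of_lt_codim {X : Scheme.{u}} (ι : X ⟶ CohB1.ProjSpace N k)
    [IsClosedImmersion ι] (r : ℕ)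
    (hr : topologicalKrullDim ↥X + (r : WithBot ℕ∞) ≤ (N : WithBot ℕ∞))
    (E : (CohB1.ProjSpace N k).Modules) (hE : FlatMod.IsFinLocFree E)
    [ModSite.HasSheafHom (O := (CohB1.ProjSpace N k).sheaf)
      ((Scheme.Modules.pushforward ι).obj (Coh.structureModule X))]
    [HasInjectiveResolutions (ModSite.Mod (CohB1.ProjSpace N k).sheaf)] (i : ℕ) (hi : i < r) :
    IsZero ((ModSite.extSh (O := (CohB1.ProjSpace N k).sheaf)
      ((Scheme.Modules.pushforward ι).obj (Coh.structureModule X)) i).obj E) := by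
  haveI : IsLocallyNoetherian (CohB1.ProjSpace N k) :=
    LocallyOfFiniteType.isLocallyNoetherian (CohB1.ProjSpace N k ↘ Spec (CommRingCat.of k))
  have hG : Coh.IsCoh ((Scheme.Modules.pushforward ι).obj (Coh.structureModule X)) :=
    Groth.Agent.S0019.result ι _ (Groth.Agent.Lib.Helper2.ExtShCoh.isCoh_unit X)
  have hEc : Coh.IsCoh E := Groth.Agent.Lib.Helper13.StalkPd.coh_of_lf hE
  refine isZero_extSh_of_le_depth_stalk _ E hG hEc r (fun x hx => ?_) i hi
  obtain ⟨z, rfl⟩ := support_pushforward_subset_range ι _ hx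
  -- the dimension of `X` is a natural number `d` with `d + r ≤ N`
  obtain ⟨d, hd1, hd2⟩ : ∃ d : ℕ, topologicalKrullDim ↥X ≤ (d : WithBot ℕ∞) ∧ d + r ≤ N := by
    haveI : Nonempty ↥X := ⟨z⟩
    have hnn : (0 : WithBot ℕ∞) ≤ topologicalKrullDim ↥X :=
      Groth.Agent.Lib.Helper9.topologicalKrullDim_nonneg_of_nonempty
    generalize topologicalKrullDim ↥X = t at hr hnn
    induction t using WithBot.recBotCoe with
    | bot => exact absurd hnn (by simp)
    | coe t =>
      have h1 : t + (r : ℕ∞) ≤ (N : ℕ∞) := by exact_mod_cast hr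
      have ht : t ≠ ⊤ := fun h => by rw [h, top_add] at h1; exact ENat.coe_ne_top N (top_le_iff.mp h1)
      lift t to ℕ using ht
      exact ⟨t, le_rfl, by exact_mod_cast h1⟩
  refine le_depth_stalk_of_isFinLocFree_of_CM E hE (ι z)
    (Groth.Agent.Lib.Helper2.HomogG.depth_stalk_projSpace k N (ι z)) r ?_
  refine le_trans ?_ (natCast_sub_le_ringKrullDim_stalk k (CohB1.ProjSpace N k) N d
    (equidim_projSpace k N) ι hd1 z)
  have : r ≤ N - d := by omega
  exact_mod_cast this

end Groth.Agent.Lib.Helper2.ExtDepth
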