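import Groth.Agent.Lib.Helper2.ExtDepth.RegularDepth

/-!
# Vanishing of `ℰxt^q(i_* O_X, E)` below the codimension, on a Cohen–Macaulay scheme (helper2)
-/

set_option autoImplicit false
set_option linter.style.haveILetI false
universe u
open CategoryTheory CategoryTheory.Limits AlgebraicGeometry TopologicalSpace Opposite
open Scheme.Modules

noncomputable section

namespace Groth.Agent.Lib.Helper2.ExtDepth

/-- the stalk of a finite locally free module at a point with `depth O_x = dim O_x` has depth at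
least the dimension of the local ring. -/
theorem le_depth_stalk_of_isFinLocFree_of_CM {P : Scheme.{u}} (E : P.Modules)
    (hE : FlatMod.IsFinLocFree E) (x : P) [IsNoetherianRing (P.presheaf.stalk x)]
    (hCM : ((LocCoh.depth (P.presheaf.stalk x) (P.presheaf.stalk x) : ℕ∞) : WithBot ℕ∞) =
      ringKrullDim (P.presheaf.stalk x)) (m : ℕ)
    (hm : (m : WithBot ℕ∞) ≤ ringKrullDim (P.presheaf.stalk x)) :
    (m : ℕ∞) ≤ LocCoh.depth (P.presheaf.stalk x) (E.presheaf.stalk x) := by
  obtain ⟨hfree, hfin⟩ := Groth.Agent.Lib.Helper25.SplitFibre.free_finite_stalk_of_isFinLocFree hE x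
  by_cases hnt : Nontrivial (E.presheaf.stalk x)
  · rw [Groth.Agent.Lib.Helper7.AusBuch.depth_free (P.presheaf.stalk x) (E.presheaf.stalk x)]
    rw [← hCM] at hm
    exact_mod_cast hm
  · rw [not_nontrivial_iff_subsingleton] at hnt
    unfold LocCoh.depth
    rw [Groth.Agent.Lib.Helper4.idealDepth_of_smul_top_eq _ (Subsingleton.elim _ _)]
    exact le_top

/-- **`ℰxt^q(ι_* O_X, E) = 0` for `q < n - r`**: `P` with `depth O_p = dim O_p` everywhere,
equidimensional of dimension `n` and locally of finite type over a field, `X ⊆ P` closed of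
dimension `≤ r`, `E` finite locally free. -/
theorem isZero_extSh_pushforward_of_lt_codim_of_CM (k : Type u) [Field k] (P X : Scheme.{u})
    [P.Over (Spec (CommRingCat.of k))] [LocallyOfFiniteType (P ↘ Spec (CommRingCat.of k))]
    (hCM : ∀ p : P, ((LocCoh.depth (P.presheaf.stalk p) (P.presheaf.stalk p) : ℕ∞) : WithBot ℕ∞) =
      ringKrullDim (P.presheaf.stalk p)) (n r : ℕ)
    (hP : ∀ Z : Set ↥P, Z ∈ irreducibleComponents ↥P → topologicalKrullDim ↥Z = (n : WithBot ℕ∞))
    (ι : X ⟶ P) [IsClosedImmersion ι] (hX : topologicalKrullDim ↥X ≤ (r : WithBot ℕ∞))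
    (E : P.Modules) (hE : FlatMod.IsFinLocFree E)
    [ModSite.HasSheafHom (O := P.sheaf)
      ((Scheme.Modules.pushforward ι).obj (Coh.structureModule X))]
    [HasInjectiveResolutions (ModSite.Mod P.sheaf)] (q : ℕ) (hq : q < n - r) :
    IsZero ((ModSite.extSh (O := P.sheaf)
      ((Scheme.Modules.pushforward ι).obj (Coh.structureModule X)) q).obj E) := by
  haveI : IsLocallyNoetherian P :=
    LocallyOfFiniteType.isLocallyNoetherian (P ↘ Spec (CommRingCat.of k))
  have hG : Coh.IsCoh ((Scheme.Modules.pushforward ι).obj (Coh.structureModule X)) :=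
    Groth.Agent.S0019.result ι _ (Groth.Agent.Lib.Helper2.ExtShCoh.isCoh_unit X)
  have hEc : Coh.IsCoh E := Groth.Agent.Lib.Helper13.StalkPd.coh_of_lf hE
  refine isZero_extSh_of_le_depth_stalk _ E hG hEc (n - r) (fun x hx => ?_) q hq
  obtain ⟨z, rfl⟩ := support_pushforward_subset_range ι _ hx
  exact le_depth_stalk_of_isFinLocFree_of_CM E hE (ι z) (hCM (ι z)) (n - r)
    (natCast_sub_le_ringKrullDim_stalk k P n r hP ι hX z)

end Groth.Agent.Lib.Helper2.ExtDepth
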