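import Groth.Agent.Lib.Helper2.ExtDepth.SpecCore
import Groth.Agent.Lib.Helper2.ExtShCoh.RestrIso
import Groth.Agent.Lib.Helper2.GSS.NatDerived
import Groth.Agent.Lib.Helper3.QCTilde
import Groth.Agent.Lib.Helper3.QCProps
import Groth.Agent.Lib.Lead.HZDepthK

/-!
# Local Ext sheaves and depth on a locally Noetherian scheme (helper2)
-/

set_option autoImplicit false
set_option linter.style.haveILetI false
universe u
open CategoryTheory CategoryTheory.Limits AlgebraicGeometry TopologicalSpace Opposite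
open Scheme.Modules

noncomputable section

namespace Groth.Agent.Lib.Helper2.ExtDepth

open Groth.Agent.Lib.Helper2.ExtShCoh Groth.Agent.Lib.Helper2.RHom Groth.Agent.Lib.Helper3
open Groth.Agent.Lib.Helper2.NatDerived

variable {X : Scheme.{u}}

/-- invariance of the internal hom under isomorphisms in the first variable -/
def sheafHomIsoOfIso {G G' : X.Modules} [ModSite.HasSheafHom (O := X.sheaf) G]
    [ModSite.HasSheafHom (O := X.sheaf) G'] (e : G ≅ G') :
    ModSite.sheafHom (O := X.sheaf) G ≅ ModSite.sheafHom (O := X.sheaf) G' :=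
  ((ModSite.sheafHomAdj (O := X.sheaf) G).ofNatIsoLeft
    ((ModSite.tensorBi X.sheaf).flip.mapIso e)).rightAdjointUniq
      (ModSite.sheafHomAdj (O := X.sheaf) G')

theorem isZero_extSh_of_iso {G G' F F' : X.Modules} [ModSite.HasSheafHom (O := X.sheaf) G]
    [ModSite.HasSheafHom (O := X.sheaf) G'] [HasInjectiveResolutions (ModSite.Mod X.sheaf)]
    (e : G ≅ G') (eF : F ≅ F') (i : ℕ)
    (h : IsZero ((ModSite.extSh (O := X.sheaf) G i).obj F)) :
    IsZero ((ModSite.extSh (O := X.sheaf) G' i).obj F') := by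
  haveI := ModSite.sheafHom_additive X.sheaf G
  haveI := ModSite.sheafHom_additive X.sheaf G'
  have h1 : IsZero ((ModSite.extSh (O := X.sheaf) G i).obj F') :=
    h.of_iso ((ModSite.extSh (O := X.sheaf) G i).mapIso eF).symm
  exact h1.of_iso ((rightDerivedNatIso (sheafHomIsoOfIso e) i).app F').symm

section Chart

variable {V : X.Opens} (hV : IsAffineOpen V)

/-- vanishing of `ℰxt^i(G, F)` passes to the affine chart `Spec Γ(X, V) ⟶ X`. -/
theorem isZero_extSh_chart (G F : X.Modules) [ModSite.HasSheafHom (O := X.sheaf) G]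
    [HasInjectiveResolutions (ModSite.Mod X.sheaf)] (i : ℕ)
    (h : IsZero ((ModSite.extSh (O := X.sheaf) G i).obj F)) :
    IsZero ((ModSite.extSh (O := (Spec Γ(X, V)).sheaf) (G.restrict hV.fromSpec) i).obj
      (F.restrict hV.fromSpec)) := by
  have h1 : IsZero ((ModSite.extSh (O := (V : Scheme.{u}).sheaf) ((jst V).obj G) i).obj
      ((jst V).obj F)) := by
    refine IsZero.of_iso ?_ ((restrExtShIso V G i).app F).symm
    exact (jst V).map_isZero h
  let j₂ : Spec Γ(X, V) ⟶ (V : Scheme.{u}) := hV.isoSpec.inv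
  have h2 : IsZero ((ModSite.extSh (O := (Spec Γ(X, V)).sheaf)
      ((RestrIso.Rj j₂).obj ((jst V).obj G)) i).obj ((RestrIso.Rj j₂).obj ((jst V).obj F))) := by
    refine IsZero.of_iso ?_
      ((RestrIso.restrExtShIso j₂ ((jst V).obj G) i).app ((jst V).obj F)).symm
    exact (RestrIso.Rj j₂).map_isZero h1
  exact isZero_extSh_of_iso (QCTilde.restrictFacIso V.ι j₂ hV.fromSpec rfl G)
    (QCTilde.restrictFacIso V.ι j₂ hV.fromSpec rfl F) i h2

include hV in
/-- **Vanishing of the local Ext sheaves bounds the depth of the sections over an affine open.** -/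
theorem le_idealDepth_sections_of_isZero_extSh [IsLocallyNoetherian X] (G F : X.Modules)
    [G.IsQuasicoherent] [G.IsFiniteType] [F.IsQuasicoherent] [F.IsFiniteType]
    [ModSite.HasSheafHom (O := X.sheaf) G] [HasInjectiveResolutions (ModSite.Mod X.sheaf)]
    (n : ℕ) (h : ∀ i : ℕ, i < n → IsZero ((ModSite.extSh (O := X.sheaf) G i).obj F))
    (I : Ideal Γ(X, V)) (hI : Module.support Γ(X, V) Γ(G, V) = PrimeSpectrum.zeroLocus I) :
    (n : ℕ∞) ≤ LocCoh.idealDepth I Γ(F, V) := by
  let R : CommRingCat.{u} := Γ(X, V)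
  haveI : IsNoetherianRing R := IsLocallyNoetherian.component_noetherian ⟨V, hV⟩
  let G' : (Spec R).Modules := G.restrict hV.fromSpec
  let F' : (Spec R).Modules := F.restrict hV.fromSpec
  haveI : G'.IsQuasicoherent := inferInstance
  haveI : F'.IsQuasicoherent := inferInstance
  haveI : G'.IsFiniteType := QCProps.isFiniteType_restrict _ G
  haveI : F'.IsFiniteType := QCProps.isFiniteType_restrict _ F
  let N : ModuleCat.{u} R := (modulesSpecToSheaf.obj G').presheaf.obj (op ⊤)
  let M : ModuleCat.{u} R := (modulesSpecToSheaf.obj F').presheaf.obj (op ⊤)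
  haveI : Module.Finite R N := QCTilde.finite_of_isFiniteType G'
  haveI : Module.Finite R M := QCTilde.finite_of_isFiniteType F'
  haveI : IsIso G'.fromTildeΓ := Scheme.Modules.isIso_fromTildeΓ_of_isQuasicoherent G'
  haveI : IsIso F'.fromTildeΓ := Scheme.Modules.isIso_fromTildeΓ_of_isQuasicoherent F'
  let eG0 := asIso G'.fromTildeΓ
  let eF0 := asIso F'.fromTildeΓ
  let eG : (tilde.functor R).obj N ≅ G' := eG0
  let eF : (tilde.functor R).obj M ≅ F' := eF0
  have hN : Module.support R N = PrimeSpectrum.zeroLocus I := by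
    rw [← hI]
    exact (QCTilde.chartSectionsEquiv hV G).support_eq
  have key := le_idealDepth_of_isZero_extSh I N hN n M (fun i hi =>
    isZero_extSh_of_iso eG.symm eF.symm i (isZero_extSh_chart hV G F i (h i hi)))
  rw [← Groth.Agent.Lib.Helper4.idealDepth_congr I (QCTilde.chartSectionsEquiv hV F)]
  exact key

end Chart

section Support

/-- at a point of the support, the annihilator of the sections over an affine open lies in the
prime of the point. -/
theorem annihilator_le_primeIdealOf_of_mem_support (G : X.Modules) [G.IsQuasicoherent]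
    {V : X.Opens} (hV : IsAffineOpen V) (x : X) (hxV : x ∈ V) (hx : x ∈ CohB1.support G) :
    Module.annihilator Γ(X, V) Γ(G, V) ≤ (hV.primeIdealOf ⟨x, hxV⟩).asIdeal := by
  letI algA : Algebra Γ(X, V) (X.presheaf.stalk x) :=
    TopCat.Presheaf.algebra_section_stalk X.presheaf (U := V) ⟨x, hxV⟩
  letI modAF : Module Γ(X, V) (G.presheaf.stalk x) :=
    Module.compHom _ (algebraMap Γ(X, V) (X.presheaf.stalk x))
  let gF : Γ(G, V) →ₗ[Γ(X, V)] G.presheaf.stalk x :=
    { toFun := G.presheaf.germ V x hxV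
      map_add' := map_add _
      map_smul' := fun r m => QS.germ_smul G x hxV r m }
  haveI hgF : IsLocalizedModule (hV.primeIdealOf ⟨x, hxV⟩).asIdeal.primeCompl gF :=
    QS.isLocalizedModule_germ hV G x hxV (fun r z => rfl) gF (fun m => rfl)
  apply Module.annihilator_le_of_mem_support
  rw [Module.mem_support_iff]
  have hnt : Nontrivial (G.presheaf.stalk x) := not_subsingleton_iff_nontrivial.mp hx
  exact (IsLocalizedModule.iso (hV.primeIdealOf ⟨x, hxV⟩).asIdeal.primeCompl gF).toEquiv.nontrivial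

end Support

/-- **Vanishing of `ℰxt^i(G, F)` for `i < n` forces `depth F_x ≥ n` on the support of `G`.** -/
theorem le_depth_stalk_of_isZero_extSh [IsLocallyNoetherian X] (G F : X.Modules)
    (hG : Coh.IsCoh G) (hF : Coh.IsCoh F)
    [ModSite.HasSheafHom (O := X.sheaf) G] [HasInjectiveResolutions (ModSite.Mod X.sheaf)]
    (n : ℕ) (h : ∀ i : ℕ, i < n → IsZero ((ModSite.extSh (O := X.sheaf) G i).obj F))
    (x : X) (hx : x ∈ CohB1.support G) :
    (n : ℕ∞) ≤ LocCoh.depth (X.presheaf.stalk x) (F.presheaf.stalk x) := by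
  haveI : G.IsQuasicoherent := hG.1
  haveI : G.IsFiniteType := hG.2
  haveI : F.IsQuasicoherent := hF.1
  haveI : F.IsFiniteType := hF.2
  obtain ⟨_, ⟨V, hV : IsAffineOpen V, rfl⟩, hxV, -⟩ :=
    X.isBasis_affineOpens.exists_subset_of_mem_open (Set.mem_univ x) isOpen_univ
  haveI : IsNoetherianRing Γ(X, V) := IsLocallyNoetherian.component_noetherian ⟨V, hV⟩
  haveI : Module.Finite Γ(X, V) Γ(G, V) := QCProps.finite_sections G hV
  have key := le_idealDepth_sections_of_isZero_extSh hV G F n h
    (Module.annihilator Γ(X, V) Γ(G, V)) Module.support_eq_zeroLocus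
  rw [Groth.Agent.Lib.Lead.HZDepthK.le_idealDepth_iff_stalks F hV _ n] at key
  exact key x hxV (annihilator_le_primeIdealOf_of_mem_support G hV x hxV hx)

section VanishingGlobal

/-- a faithful functor preserving zero morphisms reflects zero objects -/
theorem isZero_of_faithful_map {C D : Type*} [Category C] [Category D] [HasZeroMorphisms C]
    [HasZeroMorphisms D] (T : C ⥤ D) [T.Faithful] [T.PreservesZeroMorphisms] {A : C}
    (h : IsZero (T.obj A)) : IsZero A := by
  rw [IsZero.iff_id_eq_zero]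
  apply T.map_injective
  rw [Functor.map_zero]
  exact h.eq_of_src _ _

/-- a module which is locally zero is zero -/
theorem isZero_of_locally_isZero (M : X.Modules)
    (h : ∀ x : X, ∃ V : X.Opens, x ∈ V ∧ IsZero (M.restrict V.ι)) : IsZero M := by
  rw [IsZero.iff_id_eq_zero]
  apply Scheme.Modules.hom_ext
  intro U
  ext s
  show s = 0
  apply TopCat.Presheaf.section_ext (⟨M.presheaf, M.isSheaf⟩ : TopCat.Sheaf Ab X.toTopCat) U
  intro x hx
  obtain ⟨V, hxV, hV⟩ := h x
  have hid : (𝟙 (M.restrict V.ι)) = 0 := hV.eq_of_src _ _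
  let W' : (V : Scheme.{u}).Opens := V.ι ⁻¹ᵁ U
  have hle : V.ι ''ᵁ W' ≤ U := by
    rintro _ ⟨y, hy, rfl⟩
    exact hy
  have hxW : x ∈ V.ι ''ᵁ W' := ⟨⟨x, hxV⟩, hx, rfl⟩
  have h0 : ∀ t : Γ(M.restrict V.ι, W'), t = 0 := fun t => by
    have h1 := congrArg (fun φ => (Scheme.Modules.Hom.app φ W') t) hid
    exact h1
  have h2 : M.presheaf.map (homOfLE hle).op s = 0 := h0 (M.presheaf.map (homOfLE hle).op s)
  rw [← TopCat.Presheaf.germ_res_apply M.presheaf (homOfLE hle) x hxW s, h2, map_zero, map_zero]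

end VanishingGlobal

section VanishingGlobal2

variable {V : X.Opens} (hV : IsAffineOpen V)

/-- vanishing on the affine chart `Spec Γ(X, V) ⟶ X` gives vanishing of the restriction to `V`. -/
theorem isZero_restrict_extSh_of_chart (G F : X.Modules) [ModSite.HasSheafHom (O := X.sheaf) G]
    [HasInjectiveResolutions (ModSite.Mod X.sheaf)] (i : ℕ)
    (h : IsZero ((ModSite.extSh (O := (Spec Γ(X, V)).sheaf) (G.restrict hV.fromSpec) i).obj
      (F.restrict hV.fromSpec))) :
    IsZero (Scheme.Modules.restrict (Y := X)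
      ((ModSite.extSh (O := X.sheaf) G i).obj F) V.ι) := by
  let j₂ : Spec Γ(X, V) ⟶ (V : Scheme.{u}) := hV.isoSpec.inv
  have h2 : IsZero ((ModSite.extSh (O := (Spec Γ(X, V)).sheaf)
      ((RestrIso.Rj j₂).obj ((jst V).obj G)) i).obj ((RestrIso.Rj j₂).obj ((jst V).obj F))) :=
    isZero_extSh_of_iso (QCTilde.restrictFacIso V.ι j₂ hV.fromSpec rfl G).symm
      (QCTilde.restrictFacIso V.ι j₂ hV.fromSpec rfl F).symm i h
  have h3 : IsZero ((RestrIso.Rj j₂).obj
      ((ModSite.extSh (O := (V : Scheme.{u}).sheaf) ((jst V).obj G) i).obj ((jst V).obj F))) :=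
    h2.of_iso ((RestrIso.restrExtShIso j₂ ((jst V).obj G) i).app ((jst V).obj F))
  have h1 : IsZero ((ModSite.extSh (O := (V : Scheme.{u}).sheaf) ((jst V).obj G) i).obj
      ((jst V).obj F)) := isZero_of_faithful_map (RestrIso.Rj j₂) h3
  exact h1.of_iso ((restrExtShIso V G i).app F)

/-- at a point of an affine open whose prime contains the annihilator of the sections, the stalk is
nonzero. -/
theorem mem_support_of_annihilator_le_primeIdealOf (G : X.Modules) [G.IsQuasicoherent]
    [Module.Finite Γ(X, V) Γ(G, V)] (x : X) (hxV : x ∈ V)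
    (hle : Module.annihilator Γ(X, V) Γ(G, V) ≤ (hV.primeIdealOf ⟨x, hxV⟩).asIdeal) :
    x ∈ CohB1.support G := by
  letI algA : Algebra Γ(X, V) (X.presheaf.stalk x) :=
    TopCat.Presheaf.algebra_section_stalk X.presheaf (U := V) ⟨x, hxV⟩
  letI modAF : Module Γ(X, V) (G.presheaf.stalk x) :=
    Module.compHom _ (algebraMap Γ(X, V) (X.presheaf.stalk x))
  let gF : Γ(G, V) →ₗ[Γ(X, V)] G.presheaf.stalk x :=
    { toFun := G.presheaf.germ V x hxV
      map_add' := map_add _
      map_smul' := fun r m => QS.germ_smul G x hxV r m }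
  haveI hgF : IsLocalizedModule (hV.primeIdealOf ⟨x, hxV⟩).asIdeal.primeCompl gF :=
    QS.isLocalizedModule_germ hV G x hxV (fun r z => rfl) gF (fun m => rfl)
  have hmem : hV.primeIdealOf ⟨x, hxV⟩ ∈ Module.support Γ(X, V) Γ(G, V) := by
    rw [Module.support_eq_zeroLocus]
    exact hle
  rw [Module.mem_support_iff] at hmem
  have hnt : Nontrivial (G.presheaf.stalk x) :=
    (IsLocalizedModule.iso (hV.primeIdealOf ⟨x, hxV⟩).asIdeal.primeCompl gF).symm.toEquiv.nontrivial
  exact not_subsingleton_iff_nontrivial.mpr hnt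

end VanishingGlobal2

/-- **`depth F_x ≥ n` on the support of `G` forces `ℰxt^i(G, F) = 0` for `i < n`.** -/
theorem isZero_extSh_of_le_depth_stalk [IsLocallyNoetherian X] (G F : X.Modules)
    (hG : Coh.IsCoh G) (hF : Coh.IsCoh F)
    [ModSite.HasSheafHom (O := X.sheaf) G] [HasInjectiveResolutions (ModSite.Mod X.sheaf)]
    (n : ℕ) (hdepth : ∀ x ∈ CohB1.support G,
      (n : ℕ∞) ≤ LocCoh.depth (X.presheaf.stalk x) (F.presheaf.stalk x))
    (i : ℕ) (hi : i < n) : IsZero ((ModSite.extSh (O := X.sheaf) G i).obj F) := by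
  haveI : G.IsQuasicoherent := hG.1
  haveI : G.IsFiniteType := hG.2
  haveI : F.IsQuasicoherent := hF.1
  haveI : F.IsFiniteType := hF.2
  apply isZero_of_locally_isZero
  intro x
  obtain ⟨_, ⟨V, hV : IsAffineOpen V, rfl⟩, hxV, -⟩ :=
    X.isBasis_affineOpens.exists_subset_of_mem_open (Set.mem_univ x) isOpen_univ
  refine ⟨V, hxV, isZero_restrict_extSh_of_chart hV G F i ?_⟩
  let R : CommRingCat.{u} := Γ(X, V)
  haveI : IsNoetherianRing R := IsLocallyNoetherian.component_noetherian ⟨V, hV⟩
  haveI : IsNoetherianRing Γ(X, V) := IsLocallyNoetherian.component_noetherian ⟨V, hV⟩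
  haveI : Module.Finite Γ(X, V) Γ(G, V) := QCProps.finite_sections G hV
  let G' : (Spec R).Modules := G.restrict hV.fromSpec
  let F' : (Spec R).Modules := F.restrict hV.fromSpec
  haveI : G'.IsQuasicoherent := inferInstance
  haveI : F'.IsQuasicoherent := inferInstance
  haveI : G'.IsFiniteType := QCProps.isFiniteType_restrict _ G
  haveI : F'.IsFiniteType := QCProps.isFiniteType_restrict _ F
  let N : ModuleCat.{u} R := (modulesSpecToSheaf.obj G').presheaf.obj (op ⊤)
  let M : ModuleCat.{u} R := (modulesSpecToSheaf.obj F').presheaf.obj (op ⊤)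
  haveI : Module.Finite R N := QCTilde.finite_of_isFiniteType G'
  haveI : Module.Finite R M := QCTilde.finite_of_isFiniteType F'
  haveI : IsIso G'.fromTildeΓ := Scheme.Modules.isIso_fromTildeΓ_of_isQuasicoherent G'
  haveI : IsIso F'.fromTildeΓ := Scheme.Modules.isIso_fromTildeΓ_of_isQuasicoherent F'
  let eG0 := asIso G'.fromTildeΓ
  let eF0 := asIso F'.fromTildeΓ
  let eG : (tilde.functor R).obj N ≅ G' := eG0
  let eF : (tilde.functor R).obj M ≅ F' := eF0
  let I : Ideal R := Module.annihilator Γ(X, V) Γ(G, V)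
  have hN : Module.support R N ⊆ PrimeSpectrum.zeroLocus I := by
    rw [(QCTilde.chartSectionsEquiv hV G).support_eq, Module.support_eq_zeroLocus]
  have hM : (n : ℕ∞) ≤ LocCoh.idealDepth I M := by
    rw [Groth.Agent.Lib.Helper4.idealDepth_congr I (QCTilde.chartSectionsEquiv hV F),
      Groth.Agent.Lib.Lead.HZDepthK.le_idealDepth_iff_stalks F hV _ n]
    intro y hyV hle
    exact hdepth y (mem_support_of_annihilator_le_primeIdealOf hV G y hyV hle)
  exact isZero_extSh_of_iso eG eF i (isZero_extSh_of_le_idealDepth I N hN n M hM i hi)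

end Groth.Agent.Lib.Helper2.ExtDepth
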