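import Groth.Agent.Lib.Lead.HomExt4
import Groth.Agent.Lib.Helper2.ExtShCoh.Restr
import Groth.Agent.Lib.Helper13.ModSiteFlatSES

/-!
# Multiplication by a global function on `O_X`-modules: naturality, tensor, internal hom, derived functors
(helper2)
-/

set_option autoImplicit false
universe u
open CategoryTheory CategoryTheory.Limits AlgebraicGeometry TopologicalSpace Opposite MonoidalCategory
open Scheme.Modules

noncomputable section

namespace Groth.Agent.Lib.Helper2.ExtDepth

open Groth.Agent.Lib.Lead.HomExt Groth.Agent.Lib.Helper3.QCSec Groth.Agent.Lib.Helper3.HomMk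
open Groth.Agent.Lib.Helper13.ModSiteTensor Groth.Agent.Lib.Helper13

variable {X : Scheme.{u}}

theorem mulHom_comp (f : Γ(X, ⊤)) {M N : X.Modules} (φ : M ⟶ N) :
    mulHom f M ≫ φ = φ ≫ mulHom f N := by
  ext U s
  change φ.app U (rT f U • s) = rT f U • φ.app U s
  exact Scheme.Modules.Hom.app_smul φ _ s

/-- multiplication by `f` as a natural endomorphism of the identity -/
def mulNat (f : Γ(X, ⊤)) : 𝟭 X.Modules ⟶ 𝟭 X.Modules where
  app M := mulHom f M
  naturality _ _ φ := (mulHom_comp f φ).symm

theorem whiskerLeft_smul {R : Type u} [CommRing R] (P Q : ModuleCat.{u} R) (g : Q ⟶ Q) (r : R)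
    (hg : ∀ m : Q, g.hom m = r • m) (t : (P ⊗ Q : ModuleCat.{u} R)) :
    (P ◁ g).hom t = r • t := by
  induction t using TensorProduct.induction_on with
  | zero => exact (map_zero _).trans (smul_zero r).symm
  | tmul a m =>
    rw [ModuleCat.MonoidalCategory.whiskerLeft_apply, hg, TensorProduct.tmul_smul]
  | add x y hx hy =>
    exact (map_add _ x y).trans ((congrArg₂ (· + ·) hx hy).trans (smul_add r x y).symm)

theorem tensor_map_mulHom (f : Γ(X, ⊤)) (A G : X.Modules) :
    ((ModSite.tensorBi X.sheaf).obj A).map (mulHom f G) =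
      mulHom f (((ModSite.tensorBi X.sheaf).obj A).obj G) := by
  change (shf X.sheaf).map (MonoidalCategoryStruct.whiskerLeft (C := PMod X.sheaf) ((fgt X.sheaf).obj A) ((fgt X.sheaf).map (mulHom f G))) = _
  apply ((shfAdj X.sheaf).homEquiv _ _).injective
  rw [Adjunction.homEquiv_unit, Adjunction.homEquiv_unit]
  erw [← (shfAdj X.sheaf).unit.naturality]
  ext U t
  have key := whiskerLeft_smul (R := X.sheaf.obj.obj U) (((fgt X.sheaf).obj A).obj U)
    (((fgt X.sheaf).obj G).obj U) (((fgt X.sheaf).map (mulHom f G)).app U) (rT f U.unop)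
    (fun m => rfl) t
  let η := (ModuleCat.Hom.hom (((shfAdj X.sheaf).unit.app
    ((fgt X.sheaf).obj A ⊗ (fgt X.sheaf).obj G)).app U))
  change η ((ModuleCat.Hom.hom ((((fgt X.sheaf).obj A).obj U) ◁
    (((fgt X.sheaf).map (mulHom f G)).app U))) t) = (rT f U.unop) • η t
  rw [key]
  exact map_smul η _ t

/-- if `f` kills `G` it kills `ℋom(G, N)` (in the second variable). -/
theorem sheafHom_map_mulHom_eq_zero (f : Γ(X, ⊤)) (G : X.Modules)
    [ModSite.HasSheafHom (O := X.sheaf) G] (hG : mulHom f G = 0) (N : X.Modules) :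
    (ModSite.sheafHom (O := X.sheaf) G).map (mulHom f N) = 0 := by
  let adj := ModSite.sheafHomAdj (O := X.sheaf) G
  apply (adj.homEquiv _ _).symm.injective
  rw [Adjunction.homEquiv_counit, Adjunction.homEquiv_counit, Functor.map_zero, zero_comp]
  have h1 := adj.counit.naturality (mulHom f N)
  have h2 : adj.counit.app N ≫ mulHom f N =
      ((ModSite.tensorBi X.sheaf).obj ((ModSite.sheafHom (O := X.sheaf) G).obj N)).map
        (mulHom f G) ≫ adj.counit.app N := by
    rw [tensor_map_mulHom]
    exact (mulHom_comp f (adj.counit.app N)).symm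
  have h3 : ((ModSite.tensorBi X.sheaf).obj ((ModSite.sheafHom (O := X.sheaf) G).obj N)).map
      (mulHom f G) = 0 := by
    haveI := ModSiteFlatSES.additive_obj (O := X.sheaf) ((ModSite.sheafHom (O := X.sheaf) G).obj N)
    exact (congrArg _ hG).trans (Functor.map_zero _ _ _)
  exact h1.trans (h2.trans ((congrArg (fun t => t ≫ adj.counit.app N) h3).trans zero_comp))

section Derived

variable {C D : Type*} [Category C] [Category D] [Abelian C] [Abelian D]
  [HasInjectiveResolutions C] (T : C ⥤ D) [T.Additive] (μ : 𝟭 C ⟶ 𝟭 C)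

/-- a natural endomorphism of the identity killed by `T` is killed by the derived functors. -/
theorem rightDerived_map_eq_zero (h : ∀ N : C, T.map (μ.app N) = 0) (i : ℕ) (N : C) :
    (T.rightDerived i).map (μ.app N) = 0 := by
  let I : InjectiveResolution N := injectiveResolution N
  let g : I.cocomplex ⟶ I.cocomplex :=
    { f := fun k => μ.app (I.cocomplex.X k)
      comm' := fun k l _ => (μ.naturality (I.cocomplex.d k l)).symm }
  have w : I.ι ≫ g = (CochainComplex.single₀ C).map (μ.app N) ≫ I.ι := by
    ext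
    rw [HomologicalComplex.comp_f, HomologicalComplex.comp_f, CochainComplex.single₀_map_f_zero]
    exact μ.naturality (I.ι.f 0)
  rw [Functor.rightDerived_map_eq T i (μ.app N) g w, Functor.comp_map]
  have hg : (T.mapHomologicalComplex _).map g = 0 := by
    ext k
    exact h _
  rw [hg, Functor.map_zero, zero_comp, comp_zero]

end Derived

end Groth.Agent.Lib.Helper2.ExtDepth
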