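import Groth.Agent.Lib.Helper2.RDBridge

/-!
# Two dévissage steps for derived functors along a short exact sequence (helper2)
-/

set_option autoImplicit false
universe v u v' u'
open CategoryTheory CategoryTheory.Limits

namespace Groth.Agent.Lib.Helper2.ExtDepth

variable {C : Type u} [Category.{v} C] [Abelian C] [EnoughInjectives C]
  {D : Type u'} [Category.{v'} D] [Abelian D] (T : C ⥤ D) [T.Additive]

/-- If `RⁱT` kills `S.f` for `i ≤ n` and `RʲT(S.X₃) = 0` for `j < n`, then `RⁱT(S.X₁) = 0` for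
`i ≤ n`. -/
theorem isZero_rightDerived_X₁ (S : ShortComplex C) (hS : S.ShortExact) (n : ℕ)
    (hf : ∀ i : ℕ, i ≤ n → (T.rightDerived i).map S.f = 0)
    (h3 : ∀ j : ℕ, j < n → IsZero ((T.rightDerived j).obj S.X₃)) (i : ℕ) (hi : i ≤ n) :
    IsZero ((T.rightDerived i).obj S.X₁) := by
  cases i with
  | zero =>
    haveI := RDBridge.rightDerived_zero_map_mono' T S hS
    exact IsZero.of_mono_eq_zero _ (hf 0 hi)
  | succ k =>
    obtain ⟨δ, h1, h2, h3', e1, e2, e3⟩ := RDBridge.rightDerived_les' T S hS k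
    have hz : (T.rightDerived (k + 1)).map S.f = 0 := hf (k + 1) hi
    haveI : Epi δ := e3.epi_f hz
    exact IsZero.of_epi δ (h3 k (by omega))

/-- If `RⁱT(S.X₂) = 0` and `Rⁱ⁺¹T(S.X₁) = 0` then `RⁱT(S.X₃) = 0`. -/
theorem isZero_rightDerived_X₃ (S : ShortComplex C) (hS : S.ShortExact) (i : ℕ)
    (h2 : IsZero ((T.rightDerived i).obj S.X₂))
    (h1 : IsZero ((T.rightDerived (i + 1)).obj S.X₁)) :
    IsZero ((T.rightDerived i).obj S.X₃) := by
  obtain ⟨δ, z1, z2, z3, e1, e2, e3⟩ := RDBridge.rightDerived_les' T S hS i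
  exact e2.isZero_of_both_zeros (h2.eq_of_src _ _) (h1.eq_of_tgt _ _)

end Groth.Agent.Lib.Helper2.ExtDepth
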