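import Groth.Agent.Lib.Helper2.ExtDepth.Lin
import Groth.Agent.Lib.Helper2.ExtDepth.Step
import Groth.Agent.Lib.Helper14.TildeExact
import Groth.Agent.Lib.Helper4.Depth
import Groth.Agent.Lib.Helper2.ExtShCoh.Coh

/-!
# Local Ext sheaves and depth on a Noetherian affine scheme (helper2)
-/

set_option autoImplicit false
set_option linter.style.haveILetI false
universe u
open CategoryTheory CategoryTheory.Limits AlgebraicGeometry TopologicalSpace Opposite
open Scheme.Modules

noncomputable section

namespace Groth.Agent.Lib.Helper2.ExtDepth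

open Groth.Agent.Lib.Lead.HomExt Groth.Agent.Lib.Helper3.QCSec Groth.Agent.Lib.Helper3.HomMk

variable {R : CommRingCat.{u}}

/-- the global function of an element of `R` -/
abbrev gf (r : R) : Γ(Spec R, ⊤) := (Scheme.ΓSpecIso R).inv r

/-- `(r • 𝟙)~` is multiplication by `r`. -/
theorem tilde_map_smul (M : ModuleCat.{u} R) (r : R) :
    (tilde.functor R).map (r • 𝟙 M) = mulHom (gf r) ((tilde.functor R).obj M) := by
  apply (tilde.adjunction.homEquiv _ _).injective
  rw [Adjunction.homEquiv_unit, Adjunction.homEquiv_unit]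
  erw [← tilde.adjunction.unit.naturality]
  ext m
  change (ModuleCat.Hom.hom (tilde.adjunction.unit.app M)) (r • m) =
    r • (ModuleCat.Hom.hom (tilde.adjunction.unit.app M)) m
  exact map_smul _ r m

section General

variable {X : Scheme.{u}}

/-- if `f` kills `G` it kills `ℰxt^i(G, N)` (in the second variable). -/
theorem extSh_map_mulHom_eq_zero (f : Γ(X, ⊤)) (G : X.Modules)
    [ModSite.HasSheafHom (O := X.sheaf) G] [HasInjectiveResolutions (ModSite.Mod X.sheaf)]
    (hG : mulHom f G = 0) (i : ℕ) (N : X.Modules) :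
    (ModSite.extSh (O := X.sheaf) G i).map (mulHom f N) = 0 :=
  haveI := ModSite.sheafHom_additive X.sheaf G
  rightDerived_map_eq_zero (ModSite.sheafHom (O := X.sheaf) G) (mulNat f)
    (fun N' => sheafHom_map_mulHom_eq_zero f G hG N') i N

/-- if `ℋom(G, F) = 0` then `Hom(G, F) = 0`. -/
theorem hom_eq_zero_of_isZero_sheafHom (G F : X.Modules) [ModSite.HasSheafHom (O := X.sheaf) G]
    (hZ : IsZero ((ModSite.sheafHom (O := X.sheaf) G).obj F)) (φ : G ⟶ F) : φ = 0 := by
  let adj := ModSite.sheafHomAdj (O := X.sheaf) G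
  let e : ((ModSite.tensorBi X.sheaf).obj (ModSite.unit X.sheaf)).obj G ≅ G :=
    (Groth.Agent.Lib.Helper13.ModSiteUnitor.leftUnitorIso X.sheaf).app G
  have h1 : e.hom ≫ φ = 0 := by
    apply (adj.homEquiv (ModSite.unit X.sheaf) F).injective
    exact hZ.eq_of_tgt _ _
  have h2 : φ = e.inv ≫ (e.hom ≫ φ) := by rw [Iso.inv_hom_id_assoc]
  rw [h2, h1]
  exact comp_zero

/-- `R⁰ℋom(G, F) = 0` implies `ℋom(G,F) = 0`. -/
theorem isZero_sheafHom_of_isZero_extSh_zero (G F : X.Modules)
    [ModSite.HasSheafHom (O := X.sheaf) G] [HasInjectiveResolutions (ModSite.Mod X.sheaf)]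
    (hZ : IsZero ((ModSite.extSh (O := X.sheaf) G 0).obj F)) :
    IsZero ((ModSite.sheafHom (O := X.sheaf) G).obj F) := by
  haveI := ModSite.sheafHom_additive X.sheaf G
  haveI : PreservesFiniteLimits (ModSite.sheafHom (O := X.sheaf) G) := by
    haveI := (ModSite.sheafHomAdj (O := X.sheaf) G).rightAdjoint_preservesLimits
    infer_instance
  exact hZ.of_iso ((Functor.rightDerivedZeroIsoSelf (ModSite.sheafHom (O := X.sheaf) G)).app F).symm

end General

/-- the tilde of the multiplication sequence of a regular element is short exact -/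
theorem tilde_smul_shortExact (M : ModuleCat.{u} R) {r : R} (hr : IsSMulRegular M r) :
    ((M.smulShortComplex r).map (tilde.functor R)).ShortExact := by
  haveI := Groth.Agent.Lib.Helper14.preservesFiniteLimits_tilde R
  haveI := Groth.Agent.Lib.Helper14.preservesFiniteColimits_tilde R
  exact hr.smulShortComplex_shortExact.map_of_exact (tilde.functor R)

section Converse

variable [IsNoetherianRing R]

local notation "TT" => tilde.functor R

/-- `Hom(N~, M~) = 0` implies `Ext^0_R(N, M) = 0`. -/
theorem subsingleton_ext_zero_of_isZero_sheafHom (N M : ModuleCat.{u} R)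
    [ModSite.HasSheafHom (O := (Spec R).sheaf) ((TT).obj N)]
    (hZ : IsZero ((ModSite.sheafHom (O := (Spec R).sheaf) ((TT).obj N)).obj ((TT).obj M))) :
    Subsingleton (Abelian.Ext N M 0) := by
  have h0 : ∀ g : N ⟶ M, g = 0 := by
    intro g
    apply (TT).map_injective
    rw [Functor.map_zero]
    exact hom_eq_zero_of_isZero_sheafHom _ _ hZ _
  refine ⟨fun a b => ?_⟩
  apply Abelian.Ext.addEquiv₀.injective
  rw [h0 (Abelian.Ext.addEquiv₀ a), h0 (Abelian.Ext.addEquiv₀ b)]

/-- **Vanishing of the local Ext sheaves bounds the depth from below** (affine Noetherian case). -/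
theorem le_idealDepth_of_isZero_extSh (I : Ideal R) (N : ModuleCat.{u} R) [Module.Finite R N]
    (hN : Module.support R N = PrimeSpectrum.zeroLocus I)
    [ModSite.HasSheafHom (O := (Spec R).sheaf) ((TT).obj N)]
    [HasInjectiveResolutions (ModSite.Mod (Spec R).sheaf)] :
    ∀ (n : ℕ) (M : ModuleCat.{u} R) [Module.Finite R M],
      (∀ i : ℕ, i < n → IsZero ((ModSite.extSh (O := (Spec R).sheaf) ((TT).obj N) i).obj
        ((TT).obj M))) → (n : ℕ∞) ≤ LocCoh.idealDepth I M := by
  haveI hEI : EnoughInjectives (ModSite.Mod (Spec R).sheaf) :=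
    Groth.Agent.Lib.Helper13.ModGrothendieck.enoughInjectives (Spec R).ringCatSheaf
  haveI := ModSite.sheafHom_additive (Spec R).sheaf ((TT).obj N)
  intro n
  induction n with
  | zero => intro M _ _; exact zero_le
  | succ n ih =>
    intro M _ h
    by_cases hIM : I • (⊤ : Submodule R M) = ⊤
    · rw [Groth.Agent.Lib.Helper4.idealDepth_of_smul_top_eq I hIM]; exact le_top
    have hE0 : Subsingleton (Abelian.Ext N M 0) :=
      subsingleton_ext_zero_of_isZero_sheafHom N M
        (isZero_sheafHom_of_isZero_extSh_zero _ _ (h 0 (Nat.succ_pos n)))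
    have h1 : (1 : ℕ∞) ≤ LocCoh.idealDepth I M := by
      have := Groth.Agent.Lib.Helper4.le_idealDepth_of_subsingleton_ext I N hN M 1
        (fun i hi => by
          have : i = 0 := by omega
          subst this; exact hE0)
      simpa using this
    obtain ⟨x, hxI, hx⟩ := (Groth.Agent.Lib.Helper4.one_le_idealDepth_iff I hIM).mp h1
    have hS := tilde_smul_shortExact M hx
    have hQ : (n : ℕ∞) ≤ LocCoh.idealDepth I (QuotSMulTop x M) := by
      refine ih (ModuleCat.of R (QuotSMulTop x M)) (fun i hi => ?_)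
      exact isZero_rightDerived_X₃ (ModSite.sheafHom (O := (Spec R).sheaf) ((TT).obj N))
        _ hS i (h i (by omega)) (h (i + 1) (by omega))
    calc ((n + 1 : ℕ) : ℕ∞) = (n : ℕ∞) + 1 := by push_cast; rfl
      _ ≤ LocCoh.idealDepth I (QuotSMulTop x M) + 1 := by gcongr
      _ ≤ LocCoh.idealDepth I M :=
        Groth.Agent.Lib.Helper4.idealDepth_quotSMulTop_add_one_le I x hxI hx

end Converse

section Vanishing

variable [IsNoetherianRing R]

local notation "TT" => tilde.functor R

/-- an element of `R` killing `N` kills `N~`. -/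
theorem mulHom_tilde_eq_zero (N : ModuleCat.{u} R) (s : R) (hs : s ∈ Module.annihilator R N) :
    mulHom (gf s) ((TT).obj N) = 0 := by
  rw [← tilde_map_smul]
  have h0 : s • 𝟙 N = 0 := by
    ext m
    exact Module.mem_annihilator.mp hs m
  rw [h0, Functor.map_zero]

/-- an element of `R` acting as the identity on `M` acts as the identity on `M~`. -/
theorem mulHom_tilde_eq_id (M : ModuleCat.{u} R) (s : R) (hs : ∀ m : M, s • m = m) :
    mulHom (gf s) ((TT).obj M) = 𝟙 _ := by
  rw [← tilde_map_smul]
  have h0 : s • 𝟙 M = 𝟙 M := by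
    ext m
    exact hs m
  rw [h0, CategoryTheory.Functor.map_id]

/-- **Below the `I`-depth of `M` the local Ext sheaves `ℰxt^i(N~, M~)` vanish**, for `N` supported in
`V(I)` (affine Noetherian case). -/
theorem isZero_extSh_of_le_idealDepth (I : Ideal R) (N : ModuleCat.{u} R) [Module.Finite R N]
    (hN : Module.support R N ⊆ PrimeSpectrum.zeroLocus I)
    [ModSite.HasSheafHom (O := (Spec R).sheaf) ((TT).obj N)]
    [HasInjectiveResolutions (ModSite.Mod (Spec R).sheaf)] :
    ∀ (n : ℕ) (M : ModuleCat.{u} R) [Module.Finite R M], (n : ℕ∞) ≤ LocCoh.idealDepth I M →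
      ∀ i : ℕ, i < n → IsZero ((ModSite.extSh (O := (Spec R).sheaf) ((TT).obj N) i).obj
        ((TT).obj M)) := by
  haveI hEI : EnoughInjectives (ModSite.Mod (Spec R).sheaf) :=
    Groth.Agent.Lib.Helper13.ModGrothendieck.enoughInjectives (Spec R).ringCatSheaf
  haveI := ModSite.sheafHom_additive (Spec R).sheaf ((TT).obj N)
  have le_rad := hN
  rw [Module.support_eq_zeroLocus, PrimeSpectrum.zeroLocus_subset_zeroLocus_iff] at le_rad
  intro n
  induction n with
  | zero => intro M _ _ i hi; exact absurd hi (Nat.not_lt_zero i)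
  | succ n ih =>
    intro M _ h i hi
    by_cases hIM : I • (⊤ : Submodule R M) = ⊤
    · obtain ⟨r, hrI, hr⟩ := Submodule.exists_mem_and_smul_eq_self_of_fg_of_le_smul I
        (⊤ : Submodule R M) Module.Finite.fg_top (by rw [hIM])
      obtain ⟨k, hk⟩ := le_rad hrI
      have hrm : ∀ (j : ℕ) (m : M), r ^ j • m = m := by
        intro j m
        induction j with
        | zero => simp
        | succ j ihj => rw [pow_succ, mul_smul, hr m Submodule.mem_top, ihj]
      have h1 := extSh_map_mulHom_eq_zero (gf (r ^ k)) ((TT).obj N)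
        (mulHom_tilde_eq_zero N _ hk) i ((TT).obj M)
      rw [mulHom_tilde_eq_id M _ (hrm k)] at h1
      rw [IsZero.iff_id_eq_zero]
      exact ((ModSite.extSh (O := (Spec R).sheaf) ((TT).obj N) i).map_id _).symm.trans h1
    · have h1 : (1 : ℕ∞) ≤ LocCoh.idealDepth I M :=
        le_trans (by exact_mod_cast Nat.succ_le_succ (Nat.zero_le n)) h
      obtain ⟨r, hrI, hr⟩ := (Groth.Agent.Lib.Helper4.one_le_idealDepth_iff I hIM).mp h1
      obtain ⟨k, hk⟩ := le_rad hrI
      have hsI : r ^ (k + 1) ∈ I := Ideal.pow_mem_of_mem I hrI (k + 1) (Nat.succ_pos k)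
      have hsN : r ^ (k + 1) ∈ Module.annihilator R N := by
        rw [pow_succ]; exact Ideal.mul_mem_right _ _ hk
      have hs : IsSMulRegular M (r ^ (k + 1)) := hr.pow (k + 1)
      have hS := tilde_smul_shortExact M hs
      have hd := Groth.Agent.Lib.Helper4.idealDepth_quotSMulTop_add_one I (r ^ (k + 1)) hsI hs
      have hQ : (n : ℕ∞) ≤ LocCoh.idealDepth I (QuotSMulTop (r ^ (k + 1)) M) := by
        rw [← hd] at h
        have h' : (n : ℕ∞) + 1 ≤ LocCoh.idealDepth I (QuotSMulTop (r ^ (k + 1)) M) + 1 := by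
          exact_mod_cast h
        exact (ENat.add_le_add_iff_right ENat.one_ne_top).mp h'
      have ih' := ih (ModuleCat.of R (QuotSMulTop (r ^ (k + 1)) M)) hQ
      refine isZero_rightDerived_X₁ (ModSite.sheafHom (O := (Spec R).sheaf) ((TT).obj N))
        _ hS n (fun i' _ => ?_) (fun j hj => ih' j hj) i (Nat.lt_succ_iff.mp hi)
      have h2 := extSh_map_mulHom_eq_zero (gf (r ^ (k + 1))) ((TT).obj N)
        (mulHom_tilde_eq_zero N _ hsN) i' ((TT).obj M)
      rw [← tilde_map_smul] at h2
      exact h2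

end Vanishing

end Groth.Agent.Lib.Helper2.ExtDepth
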